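import Cfsg.Agent.EqLemmas
import Cfsg.Agent.Lib.PGroup.Basic

/-!
# 2-groups with an involution fixing only a central four group

`Setup τ r W`: `τ` has order at most two and fixed-point group the central four group `W`, `r` has order
three, commutes with `τ` and fixes only the identity.

* `Setup.card_mod_three`, `Setup.prod`, `Setup.comm_rho`: consequences of `r`.
* `Setup.abelian_cases`: an abelian such group has exponent two and order at most 16, or all its
  involutions lie in `W`.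
* `Setup.homocyclic`: in the second case it is homocyclic of rank two.
-/

set_option autoImplicit false
set_option linter.unusedSectionVars false

open scoped commutatorElement

namespace Cfsg.Agent.FourFixed

variable {T : Type*} [Group T]

/-- An endomorphism of order two fixing only the identity of an invariant 2-subgroup kills it. -/
theorem eq_bot_of_noFix [Finite T] (H : Subgroup T) (hH : IsPGroup 2 H) (f : H → H) (hf : ∀ x, f (f x) = x)
    (h1 : f 1 = 1) (hfix : ∀ x, f x = x → x = 1) : H = ⊥ := by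
  classical
  haveI : Fact (Nat.Prime 2) := ⟨Nat.prime_two⟩
  haveI := Fintype.ofFinite H
  have hm := Equiv.Perm.card_fixedPoints_modEq (f := f) (p := 2) (n := 1) (funext hf)
  have hF : Nat.card (Function.fixedPoints f) = 1 := by
    rw [Nat.card_eq_one_iff_unique]
    exact ⟨⟨fun a b => Subtype.ext ((hfix a a.2).trans (hfix b b.2).symm)⟩, ⟨⟨1, h1⟩⟩⟩
  rw [← Nat.card_eq_fintype_card, ← Nat.card_eq_fintype_card, hF] at hm
  obtain ⟨k, hk⟩ := IsPGroup.iff_card.mp hH
  rw [hk] at hm
  rcases Nat.eq_zero_or_pos k with rfl | hpos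
  · exact Subgroup.eq_bot_of_card_eq H (by rw [hk]; rfl)
  · obtain ⟨j, rfl⟩ : ∃ j, k = j + 1 := ⟨k - 1, by omega⟩
    unfold Nat.ModEq at hm
    rw [pow_succ, Nat.mul_mod_left] at hm
    simp at hm

/-- A subgroup invariant under a fixed-point-free automorphism of order three. -/
theorem card_mod_three_of [Finite T] (r : MulAut T) (cube : ∀ x, r (r (r x)) = x)
    (fix_r : ∀ x, r x = x → x = 1) (K : Subgroup T) (hK : ∀ x ∈ K, r x ∈ K) : Nat.card K % 3 = 1 := by
  classical
  haveI : Fact (Nat.Prime 3) := ⟨Nat.prime_three⟩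
  haveI := Fintype.ofFinite K
  let f : K → K := fun w => ⟨r w, hK w w.2⟩
  have hm := Equiv.Perm.card_fixedPoints_modEq (f := f) (p := 3) (n := 1)
    (funext fun w => Subtype.ext (cube w))
  have h1 : Nat.card (Function.fixedPoints f) = 1 := by
    rw [Nat.card_eq_one_iff_unique]
    refine ⟨⟨fun a b => Subtype.ext (Subtype.ext ?_)⟩, ⟨⟨1, Subtype.ext (map_one r)⟩⟩⟩
    rw [fix_r _ (congrArg Subtype.val a.2), fix_r _ (congrArg Subtype.val b.2)]
  rw [← Nat.card_eq_fintype_card, ← Nat.card_eq_fintype_card, h1] at hm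
  exact hm


/-- The situation. -/
structure Setup (τ r : MulAut T) (W : Subgroup T) : Prop where
  pgroup : IsPGroup 2 T
  sq_tau : ∀ x, τ (τ x) = x
  cube : ∀ x, r (r (r x)) = x
  comm : ∀ x, τ (r x) = r (τ x)
  card_W : Nat.card W = 4
  sq_W : ∀ w ∈ W, w * w = 1
  central : W ≤ Subgroup.center T
  fix_tau : ∀ x, τ x = x ↔ x ∈ W
  fix_r : ∀ x, r x = x → x = 1

namespace Setup

variable [Finite T] {τ r : MulAut T} {W : Subgroup T} (S : Setup τ r W)
include S

theorem r_mem_W {x : T} (hx : x ∈ W) : r x ∈ W := by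
  rw [← S.fix_tau, S.comm, (S.fix_tau x).mpr hx]

theorem prod (x : T) : x * r x * r (r x) = 1 := by
  have hinj : Function.Injective fun y : T => y⁻¹ * r y := by
    intro a b hab
    have e : b * a⁻¹ = r b * (r a)⁻¹ := by
      have h1 : a⁻¹ * r a = b⁻¹ * r b := hab
      rw [show r a = a * (b⁻¹ * r b) by rw [← h1, mul_inv_cancel_left]]
      group
    rw [← map_inv, ← map_mul] at e
    exact (mul_inv_eq_one.1 (S.fix_r _ e.symm)).symm
  obtain ⟨y, rfl⟩ := (Finite.injective_iff_surjective.1 hinj) x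
  simp only [map_mul, map_inv, S.cube]
  group

theorem rr_eq (x : T) : r (r x) = (r x)⁻¹ * x⁻¹ := by
  rw [← mul_inv_rev]
  exact eq_inv_of_mul_eq_one_right (S.prod x)

theorem comm_rho (x : T) : Commute x (r x) := by
  have h1 := S.rr_eq x⁻¹
  rw [map_inv, map_inv, inv_inv, inv_inv, S.rr_eq x, mul_inv_rev, inv_inv, inv_inv] at h1
  exact h1

theorem card_mod_three (K : Subgroup T) (hK : ∀ x ∈ K, r x ∈ K) : Nat.card K % 3 = 1 :=
  card_mod_three_of r S.cube S.fix_r K hK

/-- The four group `W` consists of `1` and the `r`-orbit of any of its other elements. -/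
theorem W_cases {a b : T} (ha : a ∈ W) (ha1 : a ≠ 1) (hb : b ∈ W) :
    b = 1 ∨ b = a ∨ b = r a ∨ b = a * r a := by
  classical
  haveI := Fintype.ofFinite W
  have h1 : r a ≠ a := fun e => ha1 (S.fix_r _ e)
  have h2 : r a ≠ 1 := fun e => ha1 (r.injective (e.trans (map_one r).symm))
  have h3 : a * r a ≠ 1 := fun e => h1 ((eq_inv_of_mul_eq_one_right e).trans
    (inv_eq_of_mul_eq_one_right (S.sq_W a ha)))
  have hc : ({⟨1, one_mem W⟩, ⟨a, ha⟩, ⟨r a, S.r_mem_W ha⟩,
      ⟨a * r a, mul_mem ha (S.r_mem_W ha)⟩} : Finset W).card = 4 := by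
    rw [Finset.card_insert_of_notMem, Finset.card_insert_of_notMem, Finset.card_insert_of_notMem,
      Finset.card_singleton] <;>
      simp [Subtype.ext_iff, Ne.symm ha1, Ne.symm h1, Ne.symm h2, Ne.symm h3, ha1, h2]
  have := Finset.eq_univ_of_card _ (hc.trans (by rw [← Nat.card_eq_fintype_card, S.card_W]))
  have hm : (⟨b, hb⟩ : W) ∈ ({⟨1, one_mem W⟩, ⟨a, ha⟩, ⟨r a, S.r_mem_W ha⟩,
      ⟨a * r a, mul_mem ha (S.r_mem_W ha)⟩} : Finset W) := by rw [this]; exact Finset.mem_univ _
  simpa [Subtype.ext_iff] using hm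

theorem W_le_of_mem {K : Subgroup T} (hK : ∀ x ∈ K, r x ∈ K) {a : T} (ha : a ∈ W) (ha1 : a ≠ 1)
    (haK : a ∈ K) : W ≤ K := by
  intro b hb
  rcases S.W_cases ha ha1 hb with e | e | e | e <;> rw [e]
  · exact one_mem _
  · exact haK
  · exact hK a haK
  · exact mul_mem haK (hK a haK)

theorem r_tau_inv (x : T) : r (x⁻¹ * τ x) = (r x)⁻¹ * τ (r x) := by
  rw [map_mul, map_inv, S.comm]

theorem invol_of_inverted {x : T} (h : τ x = x⁻¹) (h2 : x * x = 1) : x ∈ W := by
  rw [← S.fix_tau, h, inv_eq_of_mul_eq_one_right h2]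

theorem abelian_cases (hab : ∀ a b : T, a * b = b * a) :
    ((∀ x : T, x * x = 1) ∧ Nat.card T ≤ 16) ∨ ∀ x : T, x * x = 1 → x ∈ W := by
  classical
  by_cases hex : ∀ x : T, x * x = 1 → x ∈ W
  · exact Or.inr hex
  left
  push Not at hex
  obtain ⟨x, hx2, hxW⟩ := hex
  have hcc : ∀ a b : T, a * b * (a * b) = a * a * (b * b) := fun a b => by
    rw [mul_assoc a b, ← mul_assoc b a b, hab b a, mul_assoc a b b, ← mul_assoc]
  let E : Subgroup T :=
    { carrier := {y | y * y = 1}
      one_mem' := mul_one 1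
      mul_mem' := fun {a b} (ha : a * a = 1) (hb : b * b = 1) => show a * b * (a * b) = 1 by
        rw [hcc, ha, hb, one_mul]
      inv_mem' := fun {a} (ha : a * a = 1) => show a⁻¹ * a⁻¹ = 1 by rw [← mul_inv_rev, ha, inv_one] }
  let δ : T →* T := MonoidHom.mk' (fun y => y⁻¹ * τ y) fun a b => by
    rw [map_mul, mul_inv_rev, hab b⁻¹ a⁻¹, mul_assoc a⁻¹ b⁻¹, ← mul_assoc b⁻¹ (τ a), hab b⁻¹ (τ a),
      mul_assoc (τ a), ← mul_assoc a⁻¹ (τ a)]
  have hδval : ∀ y, δ y = y⁻¹ * τ y := fun y => rfl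
  have hδinv : ∀ y, τ (δ y) = (δ y)⁻¹ := fun y => by
    rw [hδval, map_mul, map_inv, S.sq_tau, mul_inv_rev, inv_inv]
  have hδ0 : ∀ y, δ y = 1 ↔ y ∈ W := fun y => by
    rw [hδval, inv_mul_eq_one, eq_comm, S.fix_tau]
  have hδE : ∀ y ∈ E, δ y ∈ W := fun y (hy : y * y = 1) =>
    S.invol_of_inverted (hδinv y) (by rw [← map_mul, hy, map_one])
  -- `δ` maps `E` onto `W`
  let δE : E →* W := MonoidHom.mk' (fun y => ⟨δ (y : T), hδE y y.2⟩) fun a b => Subtype.ext (map_mul δ (a : T) b)
  have hEinv : ∀ y ∈ E, r y ∈ E := fun y (hy : y * y = 1) => show r y * r y = 1 by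
    rw [← map_mul, hy, map_one]
  have hsurj : ∀ w ∈ W, ∃ e ∈ E, δ e = w := by
    intro w hw
    have hle : W ≤ E.map δ := by
      refine S.W_le_of_mem (a := δ x) ?_ (hδE x hx2) (fun e => hxW ((hδ0 x).mp e))
        ⟨x, hx2, rfl⟩
      rintro _ ⟨e, he, rfl⟩
      exact ⟨r e, hEinv e he, (S.r_tau_inv e).symm⟩
    obtain ⟨e, he, rfl⟩ := hle hw
    exact ⟨e, he, rfl⟩
  have hE16 : Nat.card E ≤ 16 := by
    have h1 := δE.ker.card_mul_index
    have h2 : Nat.card δE.ker ≤ 4 := S.card_W ▸ Nat.card_le_card_of_injective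
      (fun y => (⟨y.1.1, (hδ0 _).mp (congrArg Subtype.val y.2)⟩ : W))
      fun a b e => Subtype.ext (Subtype.ext (congrArg Subtype.val e :))
    have h3 : δE.ker.index ≤ 4 := by
      rw [Subgroup.index_ker, ← S.card_W]; exact Subgroup.card_le_card_group _
    rw [← h1]
    exact Nat.mul_le_mul h2 h3
  have h4 : ∀ y : T, y * y * (y * y) = 1 → y * y = 1 := by
    intro y hy
    by_cases hyW : y * y ∈ W
    · have hd : δ y * δ y = 1 := by rw [← map_mul, hδ0]; exact hyW
      obtain ⟨e, he, hee⟩ := hsurj _ (S.invol_of_inverted (hδinv y) hd)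
      have : y * e⁻¹ ∈ W := (hδ0 _).mp (by rw [map_mul, map_inv, hee, mul_inv_cancel])
      have hm : y * e⁻¹ * e ∈ E := E.mul_mem (show y * e⁻¹ ∈ E from S.sq_W _ this) he
      rwa [inv_mul_cancel_right] at hm
    · exfalso
      have hne : δ (y * y) ≠ 1 := fun e => hyW ((hδ0 _).mp e)
      have hw : δ (y * y) ∈ W := hδE _ hy
      have h2 : δ (δ y * (y * y)) = 1 := by
        rw [map_mul δ (δ y), hδval (δ y), hδinv y, ← mul_inv_rev, ← map_mul, inv_mul_cancel]
      have h3 : δ y ∈ E := by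
        have h5 : δ y * (y * y) * (y * y)⁻¹ ∈ E :=
          E.mul_mem (show δ y * (y * y) ∈ E from S.sq_W _ ((hδ0 _).mp h2)) (E.inv_mem hy)
        rwa [mul_inv_cancel_right] at h5
      exact hne (by rw [map_mul]; exact h3)
  have hexp : ∀ y : T, y * y = 1 := by
    have key : ∀ k : ℕ, ∀ y : T, y ^ 2 ^ k = 1 → y * y = 1 := by
      intro k
      induction k with
      | zero => intro y hy; rw [pow_zero, pow_one] at hy; rw [hy, one_mul]
      | succ k ih =>
        intro y hy
        exact h4 y (ih (y * y) (by rw [← pow_two, ← pow_mul, ← pow_succ', hy]))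
    intro y
    obtain ⟨k, hk⟩ := S.pgroup y
    exact key k y hk
  refine ⟨hexp, le_trans (le_of_eq ?_) hE16⟩
  rw [show E = ⊤ from eq_top_iff.mpr fun y _ => hexp y, Subgroup.card_top]

theorem card_pow_le (hab : ∀ a b : T, a * b = b * a) (homega : ∀ x : T, x * x = 1 → x ∈ W) (k : ℕ) :
    ∀ (K : Subgroup T), (∀ x ∈ K, x ^ 2 ^ k = 1) → Nat.card K ≤ 4 ^ k := by
  induction k with
  | zero =>
    intro K hK
    rw [(Subgroup.eq_bot_iff_forall K).mpr fun x hx => by simpa using hK x hx, Subgroup.card_bot]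
    exact le_rfl
  | succ k ih =>
    intro K hK
    let sq : K →* T := MonoidHom.mk' (fun x => (x : T) * x) fun a b => by
      show (a : T) * b * ((a : T) * b) = _
      rw [mul_assoc (a : T), ← mul_assoc (b : T), hab (b : T) a, mul_assoc (a : T) b, ← mul_assoc]
    have h1 := sq.ker.card_mul_index
    have h2 : Nat.card sq.ker ≤ 4 := S.card_W ▸ Nat.card_le_card_of_injective
      (fun y => (⟨y.1.1, homega _ y.2⟩ : W))
      fun a b e => Subtype.ext (Subtype.ext (congrArg Subtype.val e :))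
    have h3 : Nat.card sq.range ≤ 4 ^ k := ih _ (by
      rintro _ ⟨x, rfl⟩
      show ((x : T) * x) ^ 2 ^ k = 1
      rw [← pow_two, ← pow_mul, ← pow_succ']; exact hK x x.2)
    rw [Subgroup.index_ker] at h1
    rw [← h1, pow_succ']
    exact Nat.mul_le_mul h2 h3

theorem homocyclic (hab : ∀ a b : T, a * b = b * a) (homega : ∀ x : T, x * x = 1 → x ∈ W) :
    ∃ n : ℕ, 1 ≤ n ∧ Nat.card T = 4 ^ n ∧ (∀ x : T, x ^ 2 ^ n = 1) ∧
      Nonempty (T ≃* Multiplicative (ZMod (2 ^ n)) × Multiplicative (ZMod (2 ^ n))) ∧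
      ∃ y : T, ∀ z : T, ∃ i j : ℕ, z = y ^ i * (r y) ^ j := by
  classical
  letI : CommGroup T := { (inferInstance : Group T) with mul_comm := hab }
  have hex : ∃ n, ∀ x : T, x ^ 2 ^ n = 1 := by
    obtain ⟨k, hk⟩ := IsPGroup.iff_card.mp S.pgroup
    exact ⟨k, fun x => hk ▸ pow_card_eq_one'⟩
  set n := Nat.find hex with hn
  have hexp := Nat.find_spec hex
  rw [← hn] at hexp
  obtain ⟨w, hw, hw1⟩ : ∃ w ∈ W, w ≠ 1 := (Subgroup.bot_or_exists_ne_one W).resolve_left fun e => by
    have := S.card_W; rw [e, Subgroup.card_bot] at this; omega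
  have hn1 : 1 ≤ n := by
    by_contra h
    have := hexp w
    rw [show n = 0 by omega] at this
    exact hw1 (by simpa using this)
  obtain ⟨y, hy⟩ : ∃ y : T, y ^ 2 ^ (n - 1) ≠ 1 := by
    by_contra h
    push Not at h
    exact Nat.find_min hex (show n - 1 < n by omega) h
  haveI : NeZero (2 ^ n) := ⟨by positivity⟩
  let f : Multiplicative (ZMod (2 ^ n)) × Multiplicative (ZMod (2 ^ n)) →* T :=
    MonoidHom.mk' (fun p => y ^ (Multiplicative.toAdd p.1).val * (r y) ^ (Multiplicative.toAdd p.2).val)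
      fun p q => by
        have h : ∀ (z : T) (a b : ZMod (2 ^ n)), z ^ (a + b).val = z ^ a.val * z ^ b.val := fun z a b => by
          rw [← pow_add, ZMod.val_add]
          exact (pow_eq_pow_mod _ (hexp z)).symm
        simp only [Prod.fst_mul, Prod.snd_mul, toAdd_mul, h]
        exact mul_mul_mul_comm _ _ _ _
  have hinj : Function.Injective f := by
    rw [← MonoidHom.ker_eq_bot_iff]
    by_contra hne
    have hp : IsPGroup 2 (Multiplicative (ZMod (2 ^ n)) × Multiplicative (ZMod (2 ^ n))) :=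
      IsPGroup.of_card (n := n + n) (by simp [Nat.card_prod, pow_add])
    haveI : Fact (Nat.Prime 2) := ⟨Nat.prime_two⟩
    obtain ⟨⟨k, hkf⟩, hk⟩ := exists_prime_orderOf_dvd_card' (G := f.ker) 2 (by
      obtain ⟨m, hm⟩ := IsPGroup.iff_card.mp (hp.to_subgroup f.ker)
      rw [hm]
      refine dvd_pow_self 2 fun e => hne (Subgroup.eq_bot_of_card_eq _ (by rw [hm, e]; rfl)))
    rw [Subgroup.orderOf_mk] at hk
    obtain ⟨a, b⟩ := k
    have hk2 := (orderOf_eq_prime_iff.mp hk)
    have hab2 := congrArg Prod.fst hk2.1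
    have hbb2 := congrArg Prod.snd hk2.1
    simp only [Prod.pow_fst, Prod.pow_snd, Prod.fst_one, Prod.snd_one] at hab2 hbb2
    have hcase : ∀ c : Multiplicative (ZMod (2 ^ n)), c ^ 2 = 1 →
        (Multiplicative.toAdd c).val = 0 ∨ (Multiplicative.toAdd c).val = 2 ^ (n - 1) := by
      intro c hc
      have h1 : Multiplicative.toAdd c + Multiplicative.toAdd c = 0 := by
        rw [← toAdd_mul, ← pow_two, hc, toAdd_one]
      have h2 := congrArg ZMod.val h1
      rw [ZMod.val_add, ZMod.val_zero] at h2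
      have hlt := ZMod.val_lt (Multiplicative.toAdd c)
      obtain ⟨q, hq⟩ := Nat.dvd_of_mod_eq_zero h2
      have hpow : 2 ^ n = 2 * 2 ^ (n - 1) := by rw [← pow_succ', show n - 1 + 1 = n by omega]
      generalize (Multiplicative.toAdd c).val = v at hlt hq
      rcases Nat.lt_or_ge q 2 with hq2 | hq2
      · interval_cases q <;> omega
      · exfalso; have := Nat.mul_le_mul_left (2 ^ n) hq2; omega
    set w0 := y ^ 2 ^ (n - 1) with hw0
    have hw0W : w0 ∈ W := homega _ (by
      rw [hw0, ← pow_add, ← two_mul, ← pow_succ', show n - 1 + 1 = n by omega, hexp])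
    have hker : y ^ (Multiplicative.toAdd a).val * (r y) ^ (Multiplicative.toAdd b).val = 1 :=
      MonoidHom.mem_ker.mp hkf
    rcases hcase a hab2 with ea | ea <;> rcases hcase b hbb2 with eb | eb <;> rw [ea, eb] at hker
    · refine hk2.2 (Prod.ext ?_ ?_)
      · exact (ZMod.val_eq_zero _).mp ea
      · exact (ZMod.val_eq_zero _).mp eb
    · rw [pow_zero, one_mul, ← map_pow] at hker
      exact hy (r.injective (hker.trans (map_one r).symm))
    · rw [pow_zero, mul_one] at hker; exact hy hker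
    · rw [← map_pow, ← hw0] at hker
      refine hy (S.fix_r _ ?_)
      exact (eq_inv_of_mul_eq_one_right hker).trans (inv_eq_of_mul_eq_one_right (S.sq_W _ hw0W))
  have hle : Nat.card T ≤ 4 ^ n := by
    rw [← Subgroup.card_top (G := T)]
    exact S.card_pow_le hab homega n ⊤ fun x _ => hexp x
  have hcardD : Nat.card (Multiplicative (ZMod (2 ^ n)) × Multiplicative (ZMod (2 ^ n))) = 4 ^ n := by
    simp [Nat.card_prod, ← mul_pow]
  have hbij : Function.Bijective f := hinj.bijective_of_nat_card_le (by rw [hcardD]; exact hle)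
  refine ⟨n, hn1, ?_, hexp, ⟨(MulEquiv.ofBijective f hbij).symm⟩, y, fun z => ?_⟩
  · rw [← hcardD]; exact (Nat.card_congr (Equiv.ofBijective f hbij)).symm
  · obtain ⟨p, rfl⟩ := hbij.2 z
    exact ⟨_, _, rfl⟩

end Setup

end Cfsg.Agent.FourFixed
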