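import Cfsg.Agent.EqLemmas
import Cfsg.Agent.Lib.CentU34.Presentation
import Cfsg.Agent.Lib.Unitary.SylowThree
import Mathlib.FieldTheory.Finite.GaloisField

/-!
# A presentation of the Sylow 2-subgroup of `PSU₃(4)`

`Rel a₁ a₂ b₁ b₂ z₁ z₂`: relations on four generators; they generate a subgroup of order at most 64
(`Rel.card_le`), define homomorphisms on a group of order 64 (`Rel.exists_hom`), and hold in the Sylow
2-subgroup of `SU₃(4)` (`exists_rel_sylThree`); `exists_sylow_equiv` identifies such a group.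
-/

set_option autoImplicit false
set_option linter.unusedSectionVars false

open scoped commutatorElement

namespace Cfsg.Agent.FourFixed

variable {G : Type*} [Group G]

/-- The relations. -/
structure Rel (a₁ a₂ b₁ b₂ z₁ z₂ : G) : Prop where
  hz₁ : z₁ * z₁ = 1
  hz₂ : z₂ * z₂ = 1
  hc₁ : ∀ x ∈ ({a₁, a₂, b₁, b₂, z₂} : Set G), x * z₁ = z₁ * x
  hc₂ : ∀ x ∈ ({a₁, a₂, b₁, b₂, z₁} : Set G), x * z₂ = z₂ * x
  ha₁ : a₁ * a₁ = z₁
  ha₂ : a₂ * a₂ = z₂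
  hb₁ : b₁ * b₁ = z₂
  hb₂ : b₂ * b₂ = z₁ * z₂
  haa : ⁅a₁, a₂⁆ = 1
  hbb : ⁅b₁, b₂⁆ = 1
  hab₁₁ : ⁅a₁, b₁⁆ = z₁
  hab₁₂ : ⁅a₁, b₂⁆ = z₁ * z₂
  hab₂₁ : ⁅a₂, b₁⁆ = z₁ * z₂
  hab₂₂ : ⁅a₂, b₂⁆ = z₂

/-- Adjoining an element whose square and whose commutators with the generators lie in the subgroup. -/
theorem card_adjoin (M : Subgroup G) [Finite M] (s : Set G) (hM : M = Subgroup.closure s) (x : G)
    (hx : x * x ∈ M) (hc : ∀ m ∈ s, ⁅x, m⁆ ∈ M) :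
    Finite (M ⊔ Subgroup.zpowers x : Subgroup G) ∧
      Nat.card (M ⊔ Subgroup.zpowers x : Subgroup G) ≤ 2 * Nat.card M ∧
      M ⊔ Subgroup.zpowers x = Subgroup.closure (insert x s) := by
  have hn : ∀ m ∈ M, x * m * x⁻¹ ∈ M := by
    intro m hm
    rw [hM] at hm
    induction hm using Subgroup.closure_induction with
    | mem m hm =>
      rw [show x * m * x⁻¹ = ⁅x, m⁆ * m by rw [commutatorElement_def]; group]
      exact mul_mem (hc m hm) (hM ▸ Subgroup.subset_closure hm)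
    | one => simp
    | mul a b _ _ ha hb =>
      rw [show x * (a * b) * x⁻¹ = x * a * x⁻¹ * (x * b * x⁻¹) by group]; exact mul_mem ha hb
    | inv a _ ha => rw [show x * a⁻¹ * x⁻¹ = (x * a * x⁻¹)⁻¹ by group]; exact inv_mem ha
  obtain ⟨h1, h2⟩ := CentU34.card_sup_zpowers_le M x 2 two_pos (by rw [pow_two]; exact hx) hn
  refine ⟨h1, h2, ?_⟩
  rw [Set.insert_eq, Subgroup.closure_union, ← hM, ← Subgroup.zpowers_eq_closure, sup_comm]

variable {a₁ a₂ b₁ b₂ z₁ z₂ : G}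

theorem Rel.card_le (h : Rel a₁ a₂ b₁ b₂ z₁ z₂) :
    Finite (Subgroup.closure ({a₁, a₂, b₁, b₂} : Set G)) ∧
      Nat.card (Subgroup.closure ({a₁, a₂, b₁, b₂} : Set G)) ≤ 64 ∧
      Nat.card (Subgroup.closure ({a₁, a₂, b₁, b₂} : Set G)) ≤ 16 * Nat.card (Subgroup.closure ({z₁, z₂} : Set G)) := by
  set M0 := Subgroup.zpowers z₁ with hM0
  have hfin : IsOfFinOrder z₁ := isOfFinOrder_iff_pow_eq_one.mpr ⟨2, two_pos, by rw [pow_two]; exact h.hz₁⟩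
  have k0 : Nat.card M0 ≤ 2 := by
    rw [Nat.card_zpowers]; exact orderOf_le_of_pow_eq_one two_pos (by rw [pow_two]; exact h.hz₁)
  haveI : Finite M0 := hfin.finite_zpowers
  have hz : ∀ x ∈ ({a₁, a₂, b₁, b₂, z₂} : Set G), ⁅x, z₁⁆ = 1 := fun x hx =>
    commutatorElement_eq_one_iff_mul_comm.mpr (h.hc₁ x hx)
  have hz' : ∀ x ∈ ({a₁, a₂, b₁, b₂, z₁} : Set G), ⁅x, z₂⁆ = 1 := fun x hx =>
    commutatorElement_eq_one_iff_mul_comm.mpr (h.hc₂ x hx)
  obtain ⟨f1, k1, e1⟩ := card_adjoin M0 {z₁} (Subgroup.zpowers_eq_closure z₁) z₂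
    (by rw [h.hz₂]; exact one_mem _) (by rintro m rfl; rw [hz z₂ (by simp)]; exact one_mem _)
  haveI := f1
  set M1 := M0 ⊔ Subgroup.zpowers z₂ with hM1
  have m11 : z₁ ∈ M1 := Subgroup.mem_sup_left (Subgroup.mem_zpowers _)
  have m12 : z₂ ∈ M1 := Subgroup.mem_sup_right (Subgroup.mem_zpowers _)
  obtain ⟨f2, k2, e2⟩ := card_adjoin M1 _ e1 a₁ (by rw [h.ha₁]; exact m11) (by
    rintro m (rfl | rfl)
    · rw [hz' a₁ (by simp)]; exact one_mem _
    · rw [hz a₁ (by simp)]; exact one_mem _)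
  haveI := f2
  set M2 := M1 ⊔ Subgroup.zpowers a₁ with hM2
  have m21 : z₁ ∈ M2 := Subgroup.mem_sup_left m11
  have m22 : z₂ ∈ M2 := Subgroup.mem_sup_left m12
  obtain ⟨f3, k3, e3⟩ := card_adjoin M2 _ e2 a₂ (by rw [h.ha₂]; exact m22) (by
    rintro m (rfl | rfl | rfl)
    · rw [← commutatorElement_inv, h.haa, inv_one]; exact one_mem _
    · rw [hz' a₂ (by simp)]; exact one_mem _
    · rw [hz a₂ (by simp)]; exact one_mem _)
  haveI := f3
  set M3 := M2 ⊔ Subgroup.zpowers a₂ with hM3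
  have m31 : z₁ ∈ M3 := Subgroup.mem_sup_left m21
  have m32 : z₂ ∈ M3 := Subgroup.mem_sup_left m22
  obtain ⟨f4, k4, e4⟩ := card_adjoin M3 _ e3 b₁ (by rw [h.hb₁]; exact m32) (by
    rintro m (rfl | rfl | rfl | rfl)
    · rw [← commutatorElement_inv, h.hab₂₁]; exact inv_mem (mul_mem m31 m32)
    · rw [← commutatorElement_inv, h.hab₁₁]; exact inv_mem m31
    · rw [hz' b₁ (by simp)]; exact one_mem _
    · rw [hz b₁ (by simp)]; exact one_mem _)
  haveI := f4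
  set M4 := M3 ⊔ Subgroup.zpowers b₁ with hM4
  have m41 : z₁ ∈ M4 := Subgroup.mem_sup_left m31
  have m42 : z₂ ∈ M4 := Subgroup.mem_sup_left m32
  obtain ⟨f5, k5, e5⟩ := card_adjoin M4 _ e4 b₂ (by rw [h.hb₂]; exact mul_mem m41 m42) (by
    rintro m (rfl | rfl | rfl | rfl | rfl)
    · rw [← commutatorElement_inv, h.hbb, inv_one]; exact one_mem _
    · rw [← commutatorElement_inv, h.hab₂₂]; exact inv_mem m42
    · rw [← commutatorElement_inv, h.hab₁₂]; exact inv_mem (mul_mem m41 m42)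
    · rw [hz' b₂ (by simp)]; exact one_mem _
    · rw [hz b₂ (by simp)]; exact one_mem _)
  haveI := f5
  have hle : Subgroup.closure ({a₁, a₂, b₁, b₂} : Set G) ≤ M4 ⊔ Subgroup.zpowers b₂ := by
    rw [e5]
    refine Subgroup.closure_mono ?_
    intro x hx
    rcases hx with rfl | rfl | rfl | rfl <;> simp
  have hle' := Nat.card_le_card_of_injective _ (Subgroup.inclusion_injective hle)
  refine ⟨Finite.of_injective _ (Subgroup.inclusion_injective hle), by omega, ?_⟩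
  have : Subgroup.closure ({z₁, z₂} : Set G) = M1 := by rw [e1, Set.pair_comm]
  rw [this]
  omega

/-- The relations define a homomorphism on a group of order 64 generated by the four elements. -/
theorem Rel.exists_hom {H : Type*} [Group H] (h : Rel a₁ a₂ b₁ b₂ z₁ z₂)
    (hgen : Subgroup.closure ({a₁, a₂, b₁, b₂} : Set G) = ⊤) (hcard : Nat.card G = 64)
    {a₁' a₂' b₁' b₂' z₁' z₂' : H} (h' : Rel a₁' a₂' b₁' b₂' z₁' z₂') :
    ∃ φ : G →* H, φ a₁ = a₁' ∧ φ a₂ = a₂' ∧ φ z₁ = z₁' ∧ φ z₂ = z₂' := by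
  have hr : Rel ((a₁, a₁') : G × H) (a₂, a₂') (b₁, b₁') (b₂, b₂') (z₁, z₁') (z₂, z₂') := by
    constructor
    · exact Prod.ext h.hz₁ h'.hz₁
    · exact Prod.ext h.hz₂ h'.hz₂
    · rintro x (rfl | rfl | rfl | rfl | rfl) <;>
        exact Prod.ext (h.hc₁ _ (by simp)) (h'.hc₁ _ (by simp))
    · rintro x (rfl | rfl | rfl | rfl | rfl) <;>
        exact Prod.ext (h.hc₂ _ (by simp)) (h'.hc₂ _ (by simp))
    · exact Prod.ext h.ha₁ h'.ha₁
    · exact Prod.ext h.ha₂ h'.ha₂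
    · exact Prod.ext h.hb₁ h'.hb₁
    · exact Prod.ext h.hb₂ h'.hb₂
    · exact Prod.ext h.haa h'.haa
    · exact Prod.ext h.hbb h'.hbb
    · exact Prod.ext h.hab₁₁ h'.hab₁₁
    · exact Prod.ext h.hab₁₂ h'.hab₁₂
    · exact Prod.ext h.hab₂₁ h'.hab₂₁
    · exact Prod.ext h.hab₂₂ h'.hab₂₂
  obtain ⟨hfin, hle, -⟩ := hr.card_le
  haveI := hfin
  set K := Subgroup.closure ({(a₁, a₁'), (a₂, a₂'), (b₁, b₁'), (b₂, b₂')} : Set (G × H))
  let p : K →* G := (MonoidHom.fst G H).comp K.subtype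
  have hsurj : Function.Surjective p := by
    rw [← MonoidHom.range_eq_top, eq_top_iff, ← hgen, Subgroup.closure_le]
    rintro x (rfl | rfl | rfl | rfl)
    · exact ⟨⟨(_, a₁'), Subgroup.subset_closure (Or.inl rfl)⟩, rfl⟩
    · exact ⟨⟨(_, a₂'), Subgroup.subset_closure (Or.inr (Or.inl rfl))⟩, rfl⟩
    · exact ⟨⟨(_, b₁'), Subgroup.subset_closure (Or.inr (Or.inr (Or.inl rfl)))⟩, rfl⟩
    · exact ⟨⟨(_, b₂'), Subgroup.subset_closure (Or.inr (Or.inr (Or.inr rfl)))⟩, rfl⟩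
  have hge := Nat.card_le_card_of_surjective p hsurj
  have hbij : Function.Bijective p :=
    (Nat.bijective_iff_surjective_and_card p).mpr ⟨hsurj, by omega⟩
  let e := MulEquiv.ofBijective p hbij
  let φ : G →* H := (MonoidHom.snd G H).comp (K.subtype.comp e.symm.toMonoidHom)
  have key : ∀ k : K, φ k.1.1 = k.1.2 := fun k => by
    have : e.symm k.1.1 = k := e.symm_apply_eq.mpr rfl
    simp [φ, this]
  have hz₁ : φ z₁ = z₁' := by
    rw [← h.ha₁, map_mul, key ⟨(a₁, a₁'), Subgroup.subset_closure (by simp)⟩, h'.ha₁]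
  have hz₂ : φ z₂ = z₂' := by
    rw [← h.ha₂, map_mul, key ⟨(a₂, a₂'), Subgroup.subset_closure (by simp)⟩, h'.ha₂]
  exact ⟨φ, key ⟨(a₁, a₁'), Subgroup.subset_closure (by simp)⟩,
    key ⟨(a₂, a₂'), Subgroup.subset_closure (by simp)⟩, hz₁, hz₂⟩

open Cfsg.Agent.Unitary in
/-- The relations hold in the Sylow 2-subgroup of `SU₃(4)`. -/
theorem exists_rel_sylThree {F : Type*} [Field F] [Fintype F] (hF : Fintype.card F = 4 ^ 2) (h2 : (2 : F) = 0) :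
    ∃ A₁ A₂ B₁ B₂ Z₁ Z₂ : sylThree hF h2, Rel A₁ A₂ B₁ B₂ Z₁ Z₂ ∧ Z₁ ≠ 1 ∧ Z₂ ≠ 1 ∧ Z₁ * Z₂ ≠ 1 := by
  classical
  have : Fact (Nat.Prime 3) := ⟨Nat.prime_three⟩
  obtain ⟨ζ, hζ⟩ := exists_prime_orderOf_dvd_card' (G := Fˣ) 3 (by
    rw [Nat.card_eq_fintype_card, Fintype.card_units, hF]; norm_num)
  set l : F := (ζ : F) with hl
  have hl3 : l ^ 3 = 1 := by
    rw [hl, ← Units.val_pow_eq_pow_val, ← hζ, pow_orderOf_eq_one, Units.val_one]
  have hl1 : l ≠ 1 := fun e => by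
    rw [show ζ = 1 from Units.ext e, orderOf_one] at hζ; norm_num at hζ
  have hl0 : l ≠ 0 := Units.ne_zero ζ
  have hll : l ^ 2 + l + 1 = 0 := by
    have h : (l - 1) * (l ^ 2 + l + 1) = 0 := by linear_combination hl3
    exact (mul_eq_zero.mp h).resolve_left (sub_ne_zero.mpr hl1)
  obtain ⟨e0, he0⟩ := exists_trace (q := 4) hF 1
  rw [one_pow] at he0
  obtain ⟨β, hβ, hβ5⟩ : ∃ β : F, β + β ^ 4 = 1 ∧ β ^ 5 = l ^ 2 := by
    have hfrob : ∀ x y : F, (x + y) ^ 4 = x ^ 4 + y ^ 4 := fun x y => add_pow_q hF x y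
    have hγ : (e0 ^ 2 + e0) ^ 2 + (e0 ^ 2 + e0) + 1 = 0 := by
      linear_combination he0 + (e0 ^ 3 + e0 ^ 2 + 1) * h2
    have hcase : (e0 ^ 2 + e0 - l ^ 2) * (e0 ^ 2 + e0 - l) = 0 := by
      linear_combination hγ - (e0 ^ 2 + e0) * hll + hl3
    rcases mul_eq_zero.mp hcase with h | h
    · exact ⟨e0, he0, by linear_combination h + e0 * he0 - e0 ^ 2 * h2⟩
    · have hb : (e0 + l) + (e0 + l) ^ 4 = 1 := by
        rw [hfrob]; linear_combination he0 + l * hl3 + l * h2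
      exact ⟨e0 + l, hb, by linear_combination h + (e0 + l) * hb + (-(e0 ^ 2) - e0 * l - l ^ 2 + l) * h2⟩
  have hfix : l ^ 4 = l := by linear_combination l * hl3
  have hfrob : ∀ x y : F, (x + y) ^ 4 = x ^ 4 + y ^ 4 := fun x y => add_pow_q hF x y
  -- elements with given first coordinate
  have hmk : ∀ a : F, ∃ g : sylThree hF h2, coordA g = a := fun a => by
    obtain ⟨b, hb⟩ := exists_trace (q := 4) hF a
    obtain ⟨g, hg, -⟩ := exists_mk (hF := hF) (h2 := h2) hb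
    exact ⟨g, hg⟩
  obtain ⟨A₁, hA₁⟩ := hmk 1
  obtain ⟨A₂, hA₂⟩ := hmk l
  obtain ⟨B₁, hB₁⟩ := hmk β
  obtain ⟨B₂, hB₂⟩ := hmk (l * β)
  have hz : ∀ c : F, c ^ 4 = c → ∃ g : sylThree hF h2, coordA g = 0 ∧ coordB g = c := fun c hc => by
    obtain ⟨g, hg, hg'⟩ := exists_mk (hF := hF) (h2 := h2) (a := (0 : F)) (b := c) (by
      rw [hc, add_self' (h2 := h2), zero_pow (by norm_num)])
    exact ⟨g, hg, hg'⟩
  obtain ⟨Z₁, hZ₁a, hZ₁b⟩ := hz 1 (one_pow 4)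
  obtain ⟨Z₂, hZ₂a, hZ₂b⟩ := hz (l ^ 2) (by linear_combination (l ^ 2 * (l ^ 3 + 1)) * hl3)
  obtain ⟨Z₃, hZ₃a, hZ₃b⟩ := hz l hfix
  have hcen : ∀ g z : sylThree hF h2, coordA z = 0 → g * z = z * g := fun g z h =>
    Subgroup.mem_center_iff.mp ((mem_center_iff z).mpr h) g
  have hsq : ∀ (g z : sylThree hF h2), coordA z = 0 → coordA g ^ 5 = coordB z → g * g = z := by
    intro g z ha hb
    exact ext' ((coord_sq g).1.trans ha.symm) ((coord_sq g).2.trans hb)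
  have hcomm : ∀ (g g' z : sylThree hF h2), coordA z = 0 →
      coordB z = coordA g ^ 4 * coordA g' + coordA g' ^ 4 * coordA g → ⁅g, g'⁆ = z := by
    intro g g' z ha hb
    rw [commutatorElement_def, mul_inv_eq_iff_eq_mul, mul_inv_eq_iff_eq_mul, mul_assoc]
    refine ext' ?_ ?_
    · rw [(coord_mul g g').1, (coord_mul z (g' * g)).1, (coord_mul g' g).1, ha]; ring
    · rw [(coord_mul g g').2, (coord_mul z (g' * g)).2, (coord_mul g' g).2, ha, hb, zero_pow (by norm_num)]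
      linear_combination (-(coordA g' ^ 4 * coordA g)) * h2
  have hZ12 : Z₁ * Z₂ = Z₃ := ext' (by rw [(coord_mul Z₁ Z₂).1, hZ₁a, hZ₂a, hZ₃a, add_zero]) (by
    rw [(coord_mul Z₁ Z₂).2, hZ₁a, hZ₁b, hZ₂b, hZ₃b]
    linear_combination hll - l * h2)
  have hne : ∀ (z : sylThree hF h2), coordB z ≠ 0 → z ≠ 1 := fun z h e => h (e ▸ coord_one.2)
  have hone : coordA (1 : sylThree hF h2) = 0 := coord_one.1
  refine ⟨A₁, A₂, B₁, B₂, Z₁, Z₂,
    ⟨hsq _ _ hone ?_, hsq _ _ hone ?_, fun x _ => hcen x Z₁ hZ₁a, fun x _ => hcen x Z₂ hZ₂a,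
      hsq _ _ hZ₁a ?_, hsq _ _ hZ₂a ?_, hsq _ _ hZ₂a ?_, ?_,
      hcomm _ _ _ hone ?_, hcomm _ _ _ hone ?_, hcomm _ _ _ hZ₁a ?_, ?_, ?_, hcomm _ _ _ hZ₂a ?_⟩,
    hne _ (by rw [hZ₁b]; exact one_ne_zero), hne _ (by rw [hZ₂b]; exact pow_ne_zero 2 hl0),
    by rw [hZ12]; exact hne _ (by rw [hZ₃b]; exact hl0)⟩
  · rw [hZ₁a, coord_one.2]; simp
  · rw [hZ₂a, coord_one.2]; simp
  · rw [hA₁, hZ₁b, one_pow]
  · rw [hA₂, hZ₂b]; linear_combination l ^ 2 * hl3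
  · rw [hB₁, hZ₂b, hβ5]
  · rw [hZ12]
    refine hsq _ _ hZ₃a ?_
    rw [hB₂, hZ₃b, mul_pow, hβ5]; linear_combination (l ^ 4 + l) * hl3
  · rw [hA₁, hA₂, coord_one.2, hfix]; linear_combination -l * h2
  · rw [hB₁, hB₂, coord_one.2, mul_pow, hfix]
    linear_combination (-(β ^ 5 * l)) * h2
  · rw [hA₁, hB₁, hZ₁b, one_pow]; linear_combination -hβ
  · rw [hZ12]; refine hcomm _ _ _ hZ₃a ?_
    rw [hA₁, hB₂, hZ₃b, mul_pow, hfix, one_pow]; linear_combination -l * hβ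
  · rw [hZ12]; refine hcomm _ _ _ hZ₃a ?_
    rw [hA₂, hB₁, hZ₃b, hfix]; linear_combination -l * hβ
  · rw [hA₂, hB₂, hZ₂b, mul_pow, hfix]; linear_combination -l ^ 2 * hβ

/-- A group of order 64 with these relations is a Sylow 2-subgroup of `PSU₃(4)`. -/
theorem exists_sylow_equiv [Finite G] (hcard : Nat.card G = 64) (h : Rel a₁ a₂ b₁ b₂ z₁ z₂)
    (hgen : Subgroup.closure ({a₁, a₂, b₁, b₂} : Set G) = ⊤)
    (hker : ∀ N : Subgroup G, N.Normal → z₁ ∉ N → z₂ ∉ N → z₁ * z₂ ∉ N → N = ⊥) :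
    ∃ (F : Type) (_ : Field F) (_ : Fintype F), Fintype.card F = 16 ∧
      ∀ P : Sylow 2 (Cfsg.PSU 3 F 4), Nonempty (G ≃* ↥(P : Subgroup (Cfsg.PSU 3 F 4))) := by
  letI fF : Fintype (GaloisField 2 4) := Fintype.ofFinite _
  have hF : Fintype.card (GaloisField 2 4) = 4 ^ 2 := by
    rw [← Nat.card_eq_fintype_card, GaloisField.card 2 4 (by norm_num)]; norm_num
  have h2 : (2 : GaloisField 2 4) = 0 := by exact_mod_cast CharP.cast_eq_zero (GaloisField 2 4) 2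
  refine ⟨GaloisField 2 4, inferInstance, fF, by rw [hF]; norm_num, fun P => ?_⟩
  obtain ⟨A₁, A₂, B₁, B₂, Z₁, Z₂, h', hne₁, hne₂, hne₁₂⟩ := exists_rel_sylThree hF h2
  obtain ⟨φ, -, -, hz₁, hz₂⟩ := h.exists_hom hgen hcard h'
  have hinj : Function.Injective φ := by
    rw [← MonoidHom.ker_eq_bot_iff]
    exact hker φ.ker inferInstance (fun e => hne₁ (hz₁ ▸ e)) (fun e => hne₂ (hz₂ ▸ e))
      (fun e => hne₁₂ (by rw [← hz₁, ← hz₂, ← map_mul]; exact e))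
  have hbij : Function.Bijective φ := hinj.bijective_of_nat_card_le (by
    rw [hcard, Unitary.card_sylThree]; norm_num)
  obtain ⟨e⟩ := Unitary.exists_equiv (n := 2) (by norm_num) (by norm_num) hF h2 P
  exact ⟨(MulEquiv.ofBijective φ hbij).trans e⟩

end Cfsg.Agent.FourFixed
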