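import Cfsg.Agent.Lib.FourFixed.Abelian
import Cfsg.Agent.Lib.FourFixed.Presentation
import Cfsg.Agent.Lib.FPFLie.Main
import Cfsg.Agent.Lib.SylowL34.Basic

/-!
# The non-abelian 2-groups with an involution fixing only a central four group

* `Setup.exists_quotient`: the induced situation on the quotient by the center.
* `Setup.structure_center`: the center is `W` and the quotient by it is elementary abelian of order 16.
* `Setup.nonabelian_cases`: the group is a Sylow 2-subgroup of `PSL₃(4)` or of `PSU₃(4)`.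
-/

set_option autoImplicit false
set_option linter.unusedSectionVars false

open scoped commutatorElement

namespace Cfsg.Agent.FourFixed

variable {T : Type*} [Group T]

namespace Setup

variable [Finite T] {τ r : MulAut T} {W : Subgroup T} (S : Setup τ r W)
include S

theorem exists_ne_one_W : ∃ w ∈ W, w ≠ 1 :=
  (Subgroup.bot_or_exists_ne_one W).resolve_left fun e => by
    have := S.card_W; rw [e, Subgroup.card_bot] at this; omega

theorem orderOf_r : orderOf r = 3 := by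
  haveI : Fact (Nat.Prime 3) := ⟨Nat.prime_three⟩
  refine orderOf_eq_prime (MulEquiv.ext fun x => ?_) fun e => ?_
  · rw [pow_succ, pow_two]; exact S.cube x
  · obtain ⟨w, -, hw1⟩ := S.exists_ne_one_W
    exact hw1 (S.fix_r w (by rw [e]; rfl))

theorem commutator_center (a b : T) : ⁅a, b⁆ ∈ Subgroup.center T := by
  haveI : Fact (Nat.Prime 3) := ⟨Nat.prime_three⟩
  haveI : Fact (Nat.Prime 2) := ⟨Nat.prime_two⟩
  haveI := S.pgroup.isNilpotent
  have h := (FPFLie.class_bound r S.orderOf_r S.fix_r).2 rfl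
  rw [Subgroup.mem_center_iff]
  intro g
  have h2 : ⁅⁅a, b⁆, g⁆ ∈ FPFLie.lcs T 2 := Subgroup.commutator_mem_commutator
    (Subgroup.commutator_mem_commutator (Subgroup.mem_top a) (Subgroup.mem_top b)) (Subgroup.mem_top g)
  rw [h, Subgroup.mem_bot, commutatorElement_eq_one_iff_mul_comm] at h2
  exact h2.symm

theorem comm_left (a b c : T) : ⁅a * b, c⁆ = ⁅a, c⁆ * ⁅b, c⁆ := by
  have h1 := Subgroup.mem_center_iff.1 (S.commutator_center b c) a
  calc ⁅a * b, c⁆ = a * ⁅b, c⁆ * (c * a⁻¹ * c⁻¹) := by simp only [commutatorElement_def]; group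
    _ = ⁅b, c⁆ * a * (c * a⁻¹ * c⁻¹) := by rw [h1]
    _ = ⁅b, c⁆ * ⁅a, c⁆ := by simp only [commutatorElement_def]; group
    _ = _ := (Subgroup.mem_center_iff.1 (S.commutator_center b c) _).symm

theorem sq_mul (a b : T) : a * b * (a * b) = ⁅b, a⁆ * (a * a * (b * b)) := by
  calc a * b * (a * b) = a * ⁅b, a⁆ * (a * b * b) := by simp only [commutatorElement_def]; group
    _ = _ := by rw [Subgroup.mem_center_iff.1 (S.commutator_center b a) a]; simp only [mul_assoc]

theorem restrict (K : Subgroup T) (hW : W ≤ K) (hτ : ∀ x ∈ K, τ x ∈ K) (hr : ∀ x ∈ K, r x ∈ K) :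
    ∃ τ' r' : MulAut K, (∀ x : K, (τ' x : T) = τ x) ∧ (∀ x : K, (r' x : T) = r x) ∧
      Setup τ' r' (W.subgroupOf K) := by
  let τ' : MulAut K :=
    { toFun := fun x => ⟨τ x, hτ x x.2⟩
      invFun := fun x => ⟨τ x, hτ x x.2⟩
      left_inv := fun x => Subtype.ext (S.sq_tau x)
      right_inv := fun x => Subtype.ext (S.sq_tau x)
      map_mul' := fun x y => Subtype.ext (map_mul τ (x : T) y) }
  let r' : MulAut K :=
    { toFun := fun x => ⟨r x, hr x x.2⟩
      invFun := fun x => ⟨r (r x), hr _ (hr x x.2)⟩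
      left_inv := fun x => Subtype.ext (S.cube x)
      right_inv := fun x => Subtype.ext (S.cube x)
      map_mul' := fun x y => Subtype.ext (map_mul r (x : T) y) }
  refine ⟨τ', r', fun x => rfl, fun x => rfl, ?_⟩
  refine ⟨S.pgroup.to_subgroup K, fun x => Subtype.ext (S.sq_tau x), fun x => Subtype.ext (S.cube x),
    fun x => Subtype.ext (S.comm x), ?_, fun w hw => Subtype.ext (S.sq_W _ hw), ?_, ?_, ?_⟩
  · rw [Nat.card_congr (Subgroup.subgroupOfEquivOfLe hW).toEquiv, S.card_W]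
  · intro w hw
    rw [Subgroup.mem_center_iff]
    exact fun g => Subtype.ext (Subgroup.mem_center_iff.1 (S.central hw) g)
  · intro x
    rw [Subgroup.mem_subgroupOf, ← S.fix_tau, Subtype.ext_iff]
    rfl
  · exact fun x hx => Subtype.ext (S.fix_r _ (congrArg Subtype.val hx))

theorem exists_quotient (hna : ¬ ∀ a b : T, a * b = b * a) :
    ∃ (τq rq : MulAut (T ⧸ Subgroup.center T)) (U : Subgroup (T ⧸ Subgroup.center T)),
      Setup τq rq U ∧ (∀ x : T, τq (x : T ⧸ Subgroup.center T) = ((τ x : T) : T ⧸ Subgroup.center T)) ∧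
      (∀ x : T, rq (x : T ⧸ Subgroup.center T) = ((r x : T) : T ⧸ Subgroup.center T)) ∧
      (∀ z ∈ Subgroup.center T, τ z = z⁻¹) := by
  classical
  haveI : Fact (Nat.Prime 2) := ⟨Nat.prime_two⟩
  set Z := Subgroup.center T with hZ
  have hmap : ∀ φ : MulAut T, Z.map (φ : T →* T) = Z := fun φ =>
    Subgroup.characteristic_iff_map_eq.1 inferInstance φ
  let τq : MulAut (T ⧸ Z) := QuotientGroup.congr Z Z τ (hmap τ)
  let rq : MulAut (T ⧸ Z) := QuotientGroup.congr Z Z r (hmap r)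
  have hτq : ∀ x : T, τq (x : T ⧸ Z) = ((τ x : T) : T ⧸ Z) := fun x => rfl
  have hrq : ∀ x : T, rq (x : T ⧸ Z) = ((r x : T) : T ⧸ Z) := fun x => rfl
  have hQp : IsPGroup 2 (T ⧸ Z) := S.pgroup.to_quotient Z
  have hsq : ∀ q, τq (τq q) = q := by
    rintro ⟨x⟩; show τq (τq (x : T ⧸ Z)) = _; rw [hτq, hτq, S.sq_tau]; rfl
  have hcube : ∀ q, rq (rq (rq q)) = q := by
    rintro ⟨x⟩; show rq (rq (rq (x : T ⧸ Z))) = _; rw [hrq, hrq, hrq, S.cube]; rfl
  have hcomm : ∀ q, τq (rq q) = rq (τq q) := by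
    rintro ⟨x⟩; show τq (rq (x : T ⧸ Z)) = rq (τq (x : T ⧸ Z))
    rw [hrq, hτq, hτq, hrq, S.comm]
  have hfix : ∀ q, rq q = q → q = 1 := by
    rintro ⟨x⟩ hx
    change rq (x : T ⧸ Z) = (x : T ⧸ Z) at hx
    show (x : T ⧸ Z) = 1
    have h3 : (x : T ⧸ Z) ^ 3 = 1 := by
      have h1 := congrArg (fun y : T => (y : T ⧸ Z)) (S.prod x)
      simp only [QuotientGroup.mk_mul, QuotientGroup.mk_one, ← hrq, hx] at h1
      rw [pow_three', h1]
    obtain ⟨k, hk⟩ := hQp (x : T ⧸ Z)
    rw [← orderOf_eq_one_iff]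
    exact Nat.eq_one_of_dvd_coprimes ((by norm_num : Nat.Coprime 3 2).pow_right k)
      (orderOf_dvd_of_pow_eq_one h3) (orderOf_dvd_of_pow_eq_one hk)
  have hab : ∀ p q : T ⧸ Z, p * q = q * p := by
    intro p q
    obtain ⟨a, rfl⟩ := QuotientGroup.mk'_surjective Z p
    obtain ⟨b, rfl⟩ := QuotientGroup.mk'_surjective Z q
    rw [← commutatorElement_eq_one_iff_mul_comm, ← map_commutatorElement]
    exact (QuotientGroup.eq_one_iff _).mpr (S.commutator_center a b)
  let U : Subgroup (T ⧸ Z) := MonoidHom.eqLocus (τq : T ⧸ Z →* T ⧸ Z) (MonoidHom.id _)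
  have hUmem : ∀ q, q ∈ U ↔ τq q = q := fun q => Iff.rfl
  let P := U.comap (QuotientGroup.mk' Z)
  have hδ : ∀ x ∈ P, x⁻¹ * τ x ∈ Z := fun x hx => QuotientGroup.eq.1 ((hUmem _).1 hx).symm
  let δ : P →* Z := MonoidHom.mk' (fun x => ⟨(x : T)⁻¹ * τ x, hδ x x.2⟩) fun x y => Subtype.ext (by
    show ((x : T) * y)⁻¹ * τ ((x : T) * y) = (x : T)⁻¹ * τ x * ((y : T)⁻¹ * τ y)
    have h := Subgroup.mem_center_iff.1 (hδ x x.2) (y : T)⁻¹
    rw [map_mul, ← mul_assoc ((x : T)⁻¹ * τ x), ← h]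
    group)
  have hker : Nat.card δ.ker ≤ 4 := S.card_W ▸ Nat.card_le_card_of_injective
    (fun y => (⟨y.1.1, (S.fix_tau _).1 (inv_mul_eq_one.1 (congrArg Subtype.val y.2)).symm⟩ : W))
    fun a b e => Subtype.ext (Subtype.ext (congrArg Subtype.val e :))
  have hPZ : Nat.card P = Nat.card U * Nat.card Z := by
    have h1 := P.card_mul_index
    rw [Subgroup.index_comap_of_surjective _ (QuotientGroup.mk'_surjective Z),
      Z.card_eq_card_quotient_mul_card_subgroup, ← U.card_mul_index, mul_right_comm] at h1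
    exact Nat.eq_of_mul_eq_mul_right (Nat.pos_of_ne_zero Subgroup.index_ne_zero_of_finite) h1
  have h1 := δ.ker.card_mul_index
  rw [Subgroup.index_ker, hPZ] at h1
  have hrange : Nat.card δ.range ≤ Nat.card Z := Subgroup.card_le_card_group _
  have hZpos : 0 < Nat.card Z := Nat.card_pos
  have hUle : Nat.card U ≤ 4 := by
    refine Nat.le_of_mul_le_mul_right ?_ hZpos
    rw [← h1]
    exact Nat.mul_le_mul hker hrange
  have hUr : ∀ q ∈ U, rq q ∈ U := fun q hq => by
    rw [hUmem] at hq ⊢; rw [hcomm, hq]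
  have hU3 := card_mod_three_of rq hcube hfix U hUr
  have hU1 : Nat.card U ≠ 1 := fun e => by
    have hbot : U = ⊥ := Subgroup.eq_bot_of_card_eq _ e
    have htop := eq_bot_of_noFix (⊤ : Subgroup (T ⧸ Z)) (hQp.to_subgroup _)
      (fun q => ⟨τq q, trivial⟩) (fun q => Subtype.ext (hsq q)) (Subtype.ext (map_one τq))
      fun q hq => Subtype.ext (by
        have : (q : T ⧸ Z) ∈ U := (hUmem _).2 (congrArg Subtype.val hq)
        rwa [hbot, Subgroup.mem_bot] at this)
    refine hna fun a b => ?_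
    have ha : a ∈ Z := (QuotientGroup.eq_one_iff a).1 (Subgroup.mem_bot.1 (htop ▸ Subgroup.mem_top _))
    exact (Subgroup.mem_center_iff.1 ha b).symm
  have hU4 : Nat.card U = 4 := by
    have : 0 < Nat.card U := Nat.card_pos
    omega
  have hinv : ∀ z ∈ Z, τ z = z⁻¹ := by
    intro z hz
    have htop : δ.range = ⊤ := by
      refine Subgroup.eq_top_of_le_card _ (Nat.le_of_mul_le_mul_left ?_ (by norm_num : 0 < 4))
      calc 4 * Nat.card Z = Nat.card δ.ker * Nat.card δ.range := by rw [h1, hU4]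
        _ ≤ 4 * Nat.card δ.range := Nat.mul_le_mul_right _ hker
    obtain ⟨x, hx⟩ : (⟨z, hz⟩ : Z) ∈ δ.range := htop ▸ Subgroup.mem_top _
    have hx' : (x : T)⁻¹ * τ x = z := congrArg Subtype.val hx
    rw [← hx', map_mul, map_inv, S.sq_tau, mul_inv_rev, inv_inv]
  have hUsq : ∀ q ∈ U, q * q = 1 := by
    let K : Subgroup (T ⧸ Z) :=
      { carrier := {q | q ∈ U ∧ q * q = 1}
        one_mem' := ⟨one_mem U, mul_one 1⟩
        mul_mem' := fun {a b} ha hb => ⟨mul_mem ha.1 hb.1, by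
          rw [mul_assoc a, ← mul_assoc b a, hab b a, mul_assoc a b b, ← mul_assoc, ha.2, hb.2, one_mul]⟩
        inv_mem' := fun {a} ha => ⟨inv_mem ha.1, by rw [← mul_inv_rev, ha.2, inv_one]⟩ }
    have hKU : K ≤ U := fun q hq => hq.1
    have hK3 := card_mod_three_of rq hcube hfix K fun q hq =>
      ⟨hUr q hq.1, by rw [← map_mul, hq.2, map_one]⟩
    have hKd : Nat.card K ∣ 4 := hU4 ▸ Subgroup.card_dvd_of_le hKU
    obtain ⟨u, hu⟩ := exists_prime_orderOf_dvd_card' (G := U) 2 (by rw [hU4]; norm_num)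
    rw [← Subgroup.orderOf_coe, orderOf_eq_prime_iff, pow_two] at hu
    have hK1 : Nat.card K ≠ 1 := fun e => hu.2 (by
      have hm : (u : T ⧸ Z) ∈ K := ⟨u.2, hu.1⟩
      rwa [Subgroup.eq_bot_of_card_eq _ e, Subgroup.mem_bot] at hm)
    have hK4 : Nat.card K = 4 := by
      have := Nat.le_of_dvd (by norm_num) hKd
      interval_cases Nat.card K <;> omega
    intro q hq
    have hKe : K = U := Subgroup.eq_of_le_of_card_ge hKU (by rw [hK4, hU4])
    rw [← hKe] at hq
    exact hq.2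
  refine ⟨τq, rq, U, ⟨hQp, hsq, hcube, hcomm, hU4, hUsq, ?_, fun q => (hUmem q).symm, hfix⟩, hτq, hrq, hinv⟩
  exact fun q _ => Subgroup.mem_center_iff.2 fun g => hab g q

/-- The center is `W`, and the quotient by it is elementary abelian of order 16. -/
theorem structure_center (hna : ¬ ∀ a b : T, a * b = b * a) :
    Subgroup.center T = W ∧ Nat.card T = 64 ∧ (∀ x : T, x * x ∈ W) ∧
      (∀ z : T, z⁻¹ * τ z ∈ W → ∃ v ∈ W, τ z = z * v) ∧
      ∀ w : T, w⁻¹ * τ w ∉ W →
        Subgroup.closure ({w⁻¹ * τ w, r (w⁻¹ * τ w), w, r w} : Set T) ⊔ W = ⊤ := by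
  classical
  haveI : Fact (Nat.Prime 2) := ⟨Nat.prime_two⟩
  obtain ⟨τq, rq, U, SQ, hτq, hrq, hinv⟩ := S.exists_quotient hna
  set Z := Subgroup.center T with hZ
  let π := QuotientGroup.mk' Z
  have hab : ∀ p q : T ⧸ Z, p * q = q * p := by
    intro p q
    obtain ⟨a, rfl⟩ := QuotientGroup.mk'_surjective Z p
    obtain ⟨b, rfl⟩ := QuotientGroup.mk'_surjective Z q
    rw [← commutatorElement_eq_one_iff_mul_comm, ← map_commutatorElement]
    exact (QuotientGroup.eq_one_iff _).mpr (S.commutator_center a b)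
  -- the quotient has exponent two
  obtain ⟨hexp, hle⟩ : (∀ q : T ⧸ Z, q * q = 1) ∧ Nat.card (T ⧸ Z) ≤ 16 := by
    rcases SQ.abelian_cases hab with h | h
    · exact h
    exfalso
    obtain ⟨n, -, -, -, -, y, hy⟩ := SQ.homocyclic hab h
    obtain ⟨y, rfl⟩ := QuotientGroup.mk'_surjective Z y
    have hdec : ∀ a : T, ∃ i j : ℕ, ∃ z ∈ Z, a = y ^ i * r y ^ j * z := fun a => by
      obtain ⟨i, j, hij⟩ := hy (π a)
      refine ⟨i, j, (y ^ i * r y ^ j)⁻¹ * a, QuotientGroup.eq.1 ?_, (mul_inv_cancel_left _ _).symm⟩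
      rw [QuotientGroup.mk_mul, QuotientGroup.mk_pow, QuotientGroup.mk_pow, ← hrq]
      exact hij.symm
    refine hna fun a b => ?_
    obtain ⟨i, j, z, hz, rfl⟩ := hdec a
    obtain ⟨k, l, z', hz', rfl⟩ := hdec b
    have hc : ∀ (p q : ℕ), Commute (y ^ p) (r y ^ q) := fun p q => (S.comm_rho y).pow_pow p q
    have h1 : Commute (y ^ i * r y ^ j) (y ^ k * r y ^ l) :=
      (((Commute.refl y).pow_pow i k).mul_right (hc i l)).mul_left
        ((hc k j).symm.mul_right ((Commute.refl (r y)).pow_pow j l))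
    have hzc : ∀ g, Commute g z := fun g => Subgroup.mem_center_iff.1 hz g
    have hzc' : ∀ g, Commute g z' := fun g => Subgroup.mem_center_iff.1 hz' g
    exact ((h1.mul_right (hzc' _)).mul_left ((hzc _).symm.mul_right (hzc' _))).eq
  have hQ16 : Nat.card (T ⧸ Z) = 16 := by
    obtain ⟨k, hk⟩ := IsPGroup.iff_card.mp SQ.pgroup
    have h3 := SQ.card_mod_three ⊤ fun _ _ => Subgroup.mem_top _
    have h4 : 4 ≤ Nat.card (T ⧸ Z) := SQ.card_W ▸ Subgroup.card_le_card_group U
    rw [Subgroup.card_top, hk] at h3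
    rw [hk] at h4 hle ⊢
    have hk4 : k ≤ 4 := (Nat.pow_le_pow_iff_right (by norm_num)).1 (show 2 ^ k ≤ 2 ^ 4 by omega)
    have hne : k ≠ 2 := fun e => by
      have hU : U = ⊤ := Subgroup.eq_top_of_card_eq _ (by rw [SQ.card_W, hk, e]; rfl)
      obtain ⟨y, hy1⟩ := SQ.exists_ne_one_W
      obtain ⟨y, rfl⟩ := QuotientGroup.mk'_surjective Z y
      have hy : ∀ q : T ⧸ Z, q = 1 ∨ q = π y ∨ q = rq (π y) ∨ q = π y * rq (π y) := fun q =>
        SQ.W_cases hy1.1 hy1.2 (hU ▸ Subgroup.mem_top q)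
      refine hna fun a b => ?_
      have key : ∀ a : T, a ∈ Subgroup.closure ((Z : Set T) ∪ {y, r y}) := by
        intro a
        have : ∃ p ∈ Subgroup.closure ((Z : Set T) ∪ {y, r y}), π p = π a := by
          rcases hy (π a) with e | e | e | e <;> rw [e]
          · exact ⟨1, one_mem _, map_one π⟩
          · exact ⟨y, Subgroup.subset_closure (by simp), rfl⟩
          · exact ⟨r y, Subgroup.subset_closure (by simp), (hrq y).symm⟩
          · refine ⟨y * r y, mul_mem (Subgroup.subset_closure (by simp)) (Subgroup.subset_closure (by simp)), ?_⟩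
            rw [map_mul]; exact congrArg (π y * ·) (hrq y).symm
        obtain ⟨p, hp, hpa⟩ := this
        have hm : p * (p⁻¹ * a) ∈ Subgroup.closure ((Z : Set T) ∪ {y, r y}) :=
          mul_mem hp (Subgroup.subset_closure (Or.inl (QuotientGroup.eq.1 hpa)))
        rwa [mul_inv_cancel_left] at hm
      have hK : IsMulCommutative (Subgroup.closure ((Z : Set T) ∪ {y, r y})) :=
        Subgroup.isMulCommutative_closure (by
          rintro a (ha | rfl | rfl) b (hb | rfl | rfl) <;>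
            first
            | rfl
            | exact (Subgroup.mem_center_iff.1 hb _)
            | exact (Subgroup.mem_center_iff.1 ha _).symm
            | exact (S.comm_rho _).eq
            | exact (S.comm_rho _).symm.eq)
      exact congrArg Subtype.val (hK.1.1 ⟨a, key a⟩ ⟨b, key b⟩)
    interval_cases k <;> omega
  -- every element of `U` is a displacement
  have hdisp : ∀ q ∈ U, ∃ p, p⁻¹ * τq p = q := by
    let δ : (T ⧸ Z) →* (T ⧸ Z) := MonoidHom.mk' (fun p => p⁻¹ * τq p) fun a b => by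
      rw [map_mul, mul_inv_rev, hab b⁻¹ a⁻¹, mul_assoc a⁻¹ b⁻¹, ← mul_assoc b⁻¹ (τq a), hab b⁻¹ (τq a),
        mul_assoc (τq a), ← mul_assoc a⁻¹ (τq a)]
    have hle : δ.range ≤ U := by
      rintro _ ⟨p, rfl⟩
      refine SQ.invol_of_inverted ?_ (hexp _)
      show τq (p⁻¹ * τq p) = (p⁻¹ * τq p)⁻¹
      rw [map_mul, map_inv, SQ.sq_tau, mul_inv_rev, inv_inv]
    have hker : Nat.card δ.ker ≤ 4 := SQ.card_W ▸ Nat.card_le_card_of_injective
      (fun y => (⟨y.1, (SQ.fix_tau _).1 (inv_mul_eq_one.1 y.2).symm⟩ : U))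
      fun a b e => Subtype.ext (congrArg Subtype.val e :)
    have h1 := δ.ker.card_mul_index
    rw [Subgroup.index_ker, hQ16] at h1
    have heq : δ.range = U := Subgroup.eq_of_le_of_card_ge hle (by
      rw [SQ.card_W]; nlinarith)
    intro q hq
    rw [← heq] at hq
    exact hq
  have hπτ : ∀ x : T, τq (π x) = π (τ x) := hτq
  have hsqZ : ∀ x : T, x * x ∈ Z := fun x => (QuotientGroup.eq_one_iff _).1 (hexp (x : T ⧸ Z))
  have hWZ : W ≤ Z := S.central
  have homega : ∀ z ∈ Z, z * z = 1 → z ∈ W := fun z hz h => S.invol_of_inverted (hinv z hz) h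
  have hc2 : ∀ a b : T, ⁅a, b⁆ * ⁅a, b⁆ = 1 := fun a b => by
    rw [← S.comm_left, commutatorElement_eq_one_iff_mul_comm]
    exact (Subgroup.mem_center_iff.1 (hsqZ a) b).symm
  -- the center is `W`
  have hZW : Z = W := by
    obtain ⟨τ', r', hτ', hr', SZ⟩ := S.restrict Z hWZ (fun z hz => by rw [hinv z hz]; exact inv_mem hz)
      (fun z hz => Subgroup.mem_center_iff.2 fun g => by
        obtain ⟨g, rfl⟩ := r.surjective g
        rw [← map_mul, ← map_mul, Subgroup.mem_center_iff.1 hz])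
    have hZab : ∀ a b : Z, a * b = b * a := fun a b => Subtype.ext (Subgroup.mem_center_iff.1 b.2 a)
    obtain ⟨n, hn, hcard, hexpZ, -, -⟩ := SZ.homocyclic hZab
      fun x hx => homega x x.2 (congrArg Subtype.val hx)
    by_contra hne
    have hn2 : 2 ≤ n := by
      by_contra h
      rw [show n = 1 by omega, pow_one] at hcard
      exact hne (Subgroup.eq_of_le_of_card_ge hWZ (by rw [hcard, S.card_W])).symm
    obtain ⟨m, hm⟩ : ∃ m, 2 ^ (n - 1) = 2 * m :=
      ⟨2 ^ (n - 2), by rw [← pow_succ', show n - 2 + 1 = n - 1 by omega]⟩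
    have hZexp : ∀ z ∈ Z, z ^ 2 ^ n = 1 := fun z hz =>
      congrArg Subtype.val (hexpZ ⟨z, hz⟩)
    let s : T →* T := MonoidHom.mk' (fun x => (x * x) ^ 2 ^ (n - 1)) fun a b => by
      have e1 : Commute (a * a) (b * b) := (Subgroup.mem_center_iff.1 (hsqZ b) (a * a))
      have e2 : Commute ⁅b, a⁆ (a * a * (b * b)) :=
        (Subgroup.mem_center_iff.1 (S.commutator_center b a) _).symm
      rw [S.sq_mul, e2.mul_pow, e1.mul_pow, hm, pow_mul ⁅b, a⁆, pow_two, hc2, one_pow, one_mul]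
    have hs : ∀ x, s x = (x * x) ^ 2 ^ (n - 1) := fun x => rfl
    have hsW : ∀ x, s x ∈ W := fun x => homega _ (pow_mem (hsqZ x) _) (by
      rw [hs, ← pow_add, ← two_mul, ← pow_succ', show n - 1 + 1 = n by omega, hZexp _ (hsqZ x)])
    -- `s` vanishes on the preimage of `U`
    have hsP : ∀ x ∈ U.comap π, x ^ 2 ^ n = 1 := by
      intro x hx
      obtain ⟨p, hp⟩ := hdisp _ hx
      obtain ⟨p, rfl⟩ := QuotientGroup.mk'_surjective Z p
      have hz : (p⁻¹ * τ p)⁻¹ * x ∈ Z := QuotientGroup.eq.1 (by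
        rw [QuotientGroup.mk_mul, QuotientGroup.mk_inv, ← hτq]; exact hp)
      have hs1 : s (p⁻¹ * τ p) = 1 := by
        rw [map_mul, map_inv, show s (τ p) = τ (s p) by rw [hs, hs, map_pow, map_mul],
          (S.fix_tau _).2 (hsW p), inv_mul_cancel]
      have hs2 : s ((p⁻¹ * τ p)⁻¹ * x) = 1 := by
        rw [hs, ← pow_two, ← pow_mul, ← pow_succ', show n - 1 + 1 = n by omega, hZexp _ hz]
      rw [map_mul, map_inv, hs1, inv_one, one_mul, hs, ← pow_two, ← pow_mul, ← pow_succ',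
        show n - 1 + 1 = n by omega] at hs2
      exact hs2
    have hZP : Z ≤ U.comap π := fun z hz => by
      show π z ∈ U
      rw [show π z = 1 from (QuotientGroup.eq_one_iff z).2 hz]; exact one_mem U
    obtain ⟨τ'', r'', -, -, SP⟩ := S.restrict (U.comap π) (hWZ.trans hZP)
      (fun x hx => by
        show π (τ x) ∈ U
        rw [← hπτ, (SQ.fix_tau _).2 hx]; exact hx)
      (fun x hx => by
        show π (r x) ∈ U
        rw [show π (r x) = rq (π x) from (hrq x).symm]; exact SQ.r_mem_W hx)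
    -- the preimage is abelian
    obtain ⟨y, hyU, hy1⟩ := SQ.exists_ne_one_W
    obtain ⟨y, rfl⟩ := QuotientGroup.mk'_surjective Z y
    have hPK : U.comap π ≤ Subgroup.closure ((Z : Set T) ∪ {y, r y}) := by
      intro a ha
      have : ∃ p ∈ Subgroup.closure ((Z : Set T) ∪ {y, r y}), π p = π a := by
        rcases SQ.W_cases hyU hy1 ha with e | e | e | e <;> rw [e]
        · exact ⟨1, one_mem _, map_one π⟩
        · exact ⟨y, Subgroup.subset_closure (by simp), rfl⟩
        · exact ⟨r y, Subgroup.subset_closure (by simp), (hrq y).symm⟩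
        · refine ⟨y * r y, mul_mem (Subgroup.subset_closure (by simp)) (Subgroup.subset_closure (by simp)), ?_⟩
          rw [map_mul]; exact congrArg (π y * ·) (hrq y).symm
      obtain ⟨p, hp, hpa⟩ := this
      have hm' : p * (p⁻¹ * a) ∈ Subgroup.closure ((Z : Set T) ∪ {y, r y}) :=
        mul_mem hp (Subgroup.subset_closure (Or.inl (QuotientGroup.eq.1 hpa)))
      rwa [mul_inv_cancel_left] at hm'
    have hK : IsMulCommutative (Subgroup.closure ((Z : Set T) ∪ {y, r y})) :=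
      Subgroup.isMulCommutative_closure (by
        rintro a (ha | rfl | rfl) b (hb | rfl | rfl) <;>
          first
          | rfl
          | exact (Subgroup.mem_center_iff.1 hb _)
          | exact (Subgroup.mem_center_iff.1 ha _).symm
          | exact (S.comm_rho _).eq
          | exact (S.comm_rho _).symm.eq)
    have hPab : ∀ a b : (U.comap π : Subgroup T), a * b = b * a := fun a b => Subtype.ext
      (congrArg Subtype.val (hK.1.1 ⟨a, hPK a.2⟩ ⟨b, hPK b.2⟩) :)
    have hPom : ∀ x : (U.comap π : Subgroup T), x * x = 1 → x ∈ W.subgroupOf (U.comap π) := by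
      rcases SP.abelian_cases hPab with ⟨h, -⟩ | h
      · exfalso
        refine hne (le_antisymm (fun z hz => homega z hz ?_) hWZ)
        exact congrArg Subtype.val (h ⟨z, hZP hz⟩)
      · exact h
    have hPle := SP.card_pow_le hPab hPom n ⊤ fun x _ => Subtype.ext (hsP x x.2)
    rw [Subgroup.card_top] at hPle
    obtain ⟨k, hk⟩ : ∃ k, Nat.card (U.comap π : Subgroup T) = 4 * k ∧ k = Nat.card Z := by
      refine ⟨Nat.card Z, ?_, rfl⟩
      have h1 := (U.comap π).card_mul_index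
      rw [Subgroup.index_comap_of_surjective _ (QuotientGroup.mk'_surjective Z),
        Z.card_eq_card_quotient_mul_card_subgroup, ← U.card_mul_index, mul_right_comm, SQ.card_W] at h1
      exact Nat.eq_of_mul_eq_mul_right (Nat.pos_of_ne_zero Subgroup.index_ne_zero_of_finite) h1
    rw [hk.1, hk.2, hcard] at hPle
    have : 0 < 4 ^ n := by positivity
    omega
  have hcard : Nat.card T = 64 := by
    rw [Z.card_eq_card_quotient_mul_card_subgroup, hQ16, hZW, S.card_W]
  refine ⟨hZW, hcard, fun x => hZW ▸ hsqZ x, fun z hz => ⟨_, hz, (mul_inv_cancel_left _ _).symm⟩, ?_⟩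
  intro w hw
  rw [← hZW] at hw ⊢
  set u := w⁻¹ * τ w with hu
  set K := Subgroup.closure ({u, r u, w, r w} : Set T) ⊔ Z
  have m : ∀ x ∈ ({u, r u, w, r w} : Set T), x ∈ K := fun x hx =>
    Subgroup.mem_sup_left (Subgroup.subset_closure hx)
  have hu1 : π u ≠ 1 := fun e => hw ((QuotientGroup.eq_one_iff u).1 e)
  have hπu : (π w)⁻¹ * τq (π w) = π u := by rw [hπτ, hu, map_mul, map_inv]
  have huU : π u ∈ U := by
    refine SQ.invol_of_inverted ?_ (hexp _)
    rw [← hπu, map_mul, map_inv, SQ.sq_tau, mul_inv_rev, inv_inv]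
  have hrπ : ∀ x : T, rq (π x) = π (r x) := hrq
  have hUK : ∀ q ∈ U, ∃ p ∈ K, π p = q := by
    intro q hq
    rcases SQ.W_cases huU hu1 hq with e | e | e | e <;> rw [e]
    · exact ⟨1, one_mem _, map_one π⟩
    · exact ⟨u, m u (by simp), rfl⟩
    · exact ⟨r u, m _ (by simp), (hrπ u).symm⟩
    · exact ⟨u * r u, mul_mem (m u (by simp)) (m _ (by simp)), by rw [map_mul, hrπ]⟩
  have hfin : ∀ (x p : T), p ∈ K → (π p)⁻¹ * τq (π p) = (π x)⁻¹ * τq (π x) → x ∈ K := by
    intro x p hp e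
    have hfix : τq (π x * (π p)⁻¹) = π x * (π p)⁻¹ := by
      rw [map_mul, map_inv]
      have e2 : τq (π p) = π p * ((π x)⁻¹ * τq (π x)) := by rw [← e, mul_inv_cancel_left]
      rw [e2, mul_inv_rev, mul_inv_rev, inv_inv]
      rw [hab (τq (π x))⁻¹ (π x), ← mul_assoc, ← mul_assoc, hab (τq (π x)) (π x), mul_assoc (π x),
        mul_inv_cancel, mul_one]
    obtain ⟨v, hv, hve⟩ := hUK _ ((SQ.fix_tau _).1 hfix)
    have hz : (v * p)⁻¹ * x ∈ Z := QuotientGroup.eq.1 (show π (v * p) = π x by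
      rw [map_mul, hve, inv_mul_cancel_right])
    have hm' := mul_mem (mul_mem hv hp) (Subgroup.mem_sup_right hz : (v * p)⁻¹ * x ∈ K)
    rwa [mul_inv_cancel_left] at hm'
  rw [eq_top_iff]
  intro x _
  have hx : (π x)⁻¹ * τq (π x) ∈ U := by
    refine SQ.invol_of_inverted ?_ (hexp _)
    rw [map_mul, map_inv, SQ.sq_tau, mul_inv_rev, inv_inv]
  rcases SQ.W_cases huU hu1 hx with e | e | e | e
  · refine hfin x 1 (one_mem _) ?_
    rw [e, map_one, map_one, inv_one, one_mul]
  · exact hfin x w (m w (by simp)) (hπu.trans e.symm)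
  · refine hfin x (r w) (m _ (by simp)) ?_
    rw [e, ← hrπ, ← SQ.r_tau_inv, hπu]
  · refine hfin x (w * r w) (mul_mem (m w (by simp)) (m _ (by simp))) ?_
    rw [e, map_mul, mul_inv_rev, map_mul τq, hab (π (r w))⁻¹ (π w)⁻¹, mul_assoc, ← mul_assoc (π (r w))⁻¹,
      hab (π (r w))⁻¹, mul_assoc, ← mul_assoc, hπu, ← hrπ, ← SQ.r_tau_inv, hπu]

/-- A non-abelian group in this situation is a Sylow 2-subgroup of `PSL₃(4)` or of `PSU₃(4)`. -/
theorem nonabelian_cases (hna : ¬ ∀ a b : T, a * b = b * a) :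
    (∃ (F : Type) (_ : Field F) (_ : Fintype F), Fintype.card F = 4 ∧
      ∀ P : Sylow 2 (Matrix.ProjectiveSpecialLinearGroup (Fin 3) F),
        Nonempty (T ≃* ↥(P : Subgroup (Matrix.ProjectiveSpecialLinearGroup (Fin 3) F)))) ∨
    (∃ (F : Type) (_ : Field F) (_ : Fintype F), Fintype.card F = 16 ∧
      ∀ P : Sylow 2 (Cfsg.PSU 3 F 4), Nonempty (T ≃* ↥(P : Subgroup (Cfsg.PSU 3 F 4)))) := by
  classical
  haveI : Fact (Nat.Prime 2) := ⟨Nat.prime_two⟩
  obtain ⟨hZ, hcard, hsq, -, hgen⟩ := S.structure_center hna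
  have F : SylowL34.FPF r := ⟨hcard, fun h => hna h.1.1, S.orderOf_r, S.fix_r⟩
  have hL : ∀ v u : T, u * u = 1 → v * v = 1 → u * v ≠ v * u →
      ∃ (F : Type) (_ : Field F) (_ : Fintype F), Fintype.card F = 4 ∧
        ∀ P : Sylow 2 (Matrix.ProjectiveSpecialLinearGroup (Fin 3) F),
          Nonempty (T ≃* ↥(P : Subgroup (Matrix.ProjectiveSpecialLinearGroup (Fin 3) F))) := by
    intro v u hu hv huv
    obtain ⟨K, iK, iF, hK, P₀, ⟨e⟩⟩ := SylowL34.exists_sylow_equiv hcard (F.rel hu hv huv)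
    exact ⟨K, iK, iF, hK, fun P => ⟨e.trans (P₀.equiv P)⟩⟩
  obtain ⟨w, hw⟩ : ∃ w : T, w⁻¹ * τ w ∉ W := by
    by_contra h
    push Not at h
    -- otherwise the displacement would be a homomorphism into `W` with kernel `W`
    let δ : T →* W := MonoidHom.mk' (fun x => ⟨x⁻¹ * τ x, h x⟩) fun x y => Subtype.ext (by
      show (x * y)⁻¹ * τ (x * y) = x⁻¹ * τ x * (y⁻¹ * τ y)
      have hc := Subgroup.mem_center_iff.1 (S.central (h x)) y⁻¹
      rw [map_mul, ← mul_assoc (x⁻¹ * τ x), ← hc]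
      group)
    have hker : Nat.card δ.ker ≤ 4 := S.card_W ▸ Nat.card_le_card_of_injective
      (fun y => (⟨y.1, (S.fix_tau _).1 (inv_mul_eq_one.1 (congrArg Subtype.val y.2)).symm⟩ : W))
      fun a b e => Subtype.ext (congrArg Subtype.val e :)
    have h1 := δ.ker.card_mul_index
    rw [Subgroup.index_ker, hcard] at h1
    have h2 : Nat.card δ.range ≤ 4 := S.card_W ▸ Subgroup.card_le_card_group _
    nlinarith
  set u := w⁻¹ * τ w with hu
  set c := u * u with hc
  have hcW : c ∈ W := hsq u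
  have hc1 : c ≠ 1 := fun e => hw (S.invol_of_inverted
    (by rw [hu, map_mul, map_inv, S.sq_tau, mul_inv_rev, inv_inv]) e)
  have htw : τ w = w * u := (mul_inv_cancel_left _ _).symm
  have hwu2 : w * u * (w * u) = w * w := by
    rw [← htw, ← map_mul]; exact (S.fix_tau _).2 (hsq w)
  have huw : ⁅u, w⁆ = c := by
    have h1 : u * (w * u) = w := mul_left_cancel (a := w) (by rw [← mul_assoc]; exact hwu2)
    have h2 : u * w = w * u⁻¹ := by
      rw [eq_mul_inv_iff_mul_eq, mul_assoc, h1]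
    rw [hc, commutatorElement_def, h2]
    have h3 : w * u⁻¹ = u * w := h2.symm
    calc w * u⁻¹ * u⁻¹ * w⁻¹ = u * (w * u⁻¹) * w⁻¹ := by rw [← mul_assoc u, ← h3]
      _ = u * u := by rw [h3]; group
  have hr1 : ⁅u, r w⁆ = r (r c) := by rw [← huw]; exact (F.comm_one u w).1
  have hr2 : ⁅r u, w⁆ = r (r c) := by rw [← huw]; exact (F.comm_one u w).2
  have hrr : r (r c) = c * r c := by
    rw [S.rr_eq, ← mul_inv_rev, inv_eq_of_mul_eq_one_right (S.sq_W _ (mul_mem hcW (S.r_mem_W hcW)))]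
  have hneq : ∀ x : T, ⁅u, x⁆ = c → u * x ≠ x * u := fun x hx e =>
    hc1 (hx ▸ commutatorElement_eq_one_iff_mul_comm.2 e)
  -- squares after multiplying by `r u`
  have hsqru : w * r u * (w * r u) = w * w * c := by
    rw [S.sq_mul, hr2, ← map_mul, ← hc, hrr,
      ← Subgroup.mem_center_iff.1 (S.central (mul_mem hcW (S.r_mem_W hcW))) (w * w * r c),
      ← Subgroup.mem_center_iff.1 (S.central hcW) (r c), mul_assoc (w * w), ← mul_assoc (r c),
      S.sq_W _ (S.r_mem_W hcW), one_mul]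
  have hU : ∀ v : T, ⁅u, v⁆ = c → v * v = r c →
      Subgroup.closure ({u, r u, v, r v} : Set T) = ⊤ →
      ∃ (F : Type) (_ : Field F) (_ : Fintype F), Fintype.card F = 16 ∧
        ∀ P : Sylow 2 (Cfsg.PSU 3 F 4), Nonempty (T ≃* ↥(P : Subgroup (Cfsg.PSU 3 F 4))) := by
    intro v huv hv hgv
    have k1 : ⁅u, r v⁆ = r (r c) := by rw [← huv]; exact (F.comm_one u v).1
    have k2 : ⁅r u, v⁆ = r (r c) := by rw [← huv]; exact (F.comm_one u v).2
    have hcz : ∀ x : T, ∀ z ∈ W, x * z = z * x := fun x z hz =>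
      Subgroup.mem_center_iff.1 (S.central hz) x
    refine exists_sylow_equiv (a₁ := u) (a₂ := r u) (b₁ := v) (b₂ := r v) (z₁ := c) (z₂ := r c) hcard
      { hz₁ := S.sq_W _ hcW
        hz₂ := S.sq_W _ (S.r_mem_W hcW)
        hc₁ := fun x _ => hcz x c hcW
        hc₂ := fun x _ => hcz x _ (S.r_mem_W hcW)
        ha₁ := hc.symm
        ha₂ := by rw [← map_mul]
        hb₁ := hv
        hb₂ := by rw [← map_mul, hv, hrr]
        haa := commutatorElement_eq_one_iff_mul_comm.2 (S.comm_rho u).eq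
        hbb := commutatorElement_eq_one_iff_mul_comm.2 (S.comm_rho v).eq
        hab₁₁ := huv
        hab₁₂ := k1.trans hrr
        hab₂₁ := k2.trans hrr
        hab₂₂ := by rw [← map_commutatorElement, huv] } hgv ?_
    intro N hN h1 h2 h3
    by_contra hne
    haveI := hN
    obtain ⟨x, ⟨hxN, hxZ⟩, hx1⟩ := (Subgroup.bot_or_exists_ne_one (N ⊓ Subgroup.center T)).resolve_left
      (PGroup.inf_center_ne_bot S.pgroup hne)
    rw [SetLike.mem_coe, hZ] at hxZ
    rcases S.W_cases hcW hc1 hxZ with e | e | e | e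
    · exact hx1 e
    · exact h1 (e ▸ hxN)
    · exact h2 (e ▸ hxN)
    · exact h3 (e ▸ hxN)
  have hcm : ⁅u, w * r u⁆ = c := by
    rw [← commutatorElement_inv, S.comm_left, ← commutatorElement_inv u w, huw,
      commutatorElement_eq_one_iff_mul_comm.2 (S.comm_rho u).symm.eq, mul_one, inv_inv]
  have htop : ∀ v : T, ⁅u, v⁆ = c →
      (∀ K : Subgroup T, u ∈ K ∧ r u ∈ K ∧ v ∈ K ∧ r v ∈ K → u ∈ K ∧ r u ∈ K ∧ w ∈ K ∧ r w ∈ K) →
      Subgroup.closure ({u, r u, v, r v} : Set T) = ⊤ := by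
    intro v _ hK
    set K := Subgroup.closure ({u, r u, v, r v} : Set T)
    have m : ∀ x ∈ ({u, r u, v, r v} : Set T), x ∈ K := fun x hx => Subgroup.subset_closure hx
    obtain ⟨k1, k2, k3, k4⟩ := hK K ⟨m u (by simp), m _ (by simp), m v (by simp), m _ (by simp)⟩
    rw [eq_top_iff, ← hgen w hw, sup_le_iff, Subgroup.closure_le]
    refine ⟨?_, ?_⟩
    · rintro x (rfl | rfl | rfl | rfl)
      exacts [k1, k2, k3, k4]
    · intro b hb
      have h1 : c ∈ K := mul_mem k1 k1
      have h2 : r c ∈ K := by rw [hc, map_mul]; exact mul_mem k2 k2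
      rcases S.W_cases hcW hc1 hb with e | e | e | e <;> rw [e]
      exacts [one_mem _, h1, h2, mul_mem h1 h2]
  rcases S.W_cases hcW hc1 (hsq w) with hf | hf | hf | hf
  · exact Or.inl (hL w (w * u) (hwu2.trans hf) hf fun e => hneq w huw (mul_left_cancel (a := w) (by
      rw [← mul_assoc, e])))
  · have hv : w * r u * (w * r u) = 1 := by rw [hsqru, hf, S.sq_W _ hcW]
    refine Or.inl (hL (w * r u) (w * r u * u) ?_ hv ?_)
    · have h1 := S.sq_mul (w * r u) u
      rw [hcm, hv, one_mul, ← hc, S.sq_W _ hcW] at h1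
      exact h1
    · intro e
      exact hneq _ hcm (mul_left_cancel (a := w * r u) (by rw [← mul_assoc, e]))
  · exact Or.inr (hU w huw hf (htop w huw (fun K hK => hK)))
  · refine Or.inr (hU (w * r u) ?_ ?_ (htop _ ?_ ?_))
    · exact hcm
    · rw [hsqru, hf, Subgroup.mem_center_iff.1 (S.central hcW) (c * r c), ← mul_assoc, S.sq_W _ hcW,
        one_mul]
    · exact hcm
    · intro K hK
      obtain ⟨k1, k2, k3, k4⟩ := hK
      have e1 : w * r u * (r u)⁻¹ = w := mul_inv_cancel_right _ _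
      have k5 : r (r u) ∈ K := by rw [S.rr_eq]; exact mul_mem (inv_mem k2) (inv_mem k1)
      refine ⟨k1, k2, e1 ▸ mul_mem k3 (inv_mem k2), ?_⟩
      have e2 : r (w * r u) * (r (r u))⁻¹ = r w := by rw [map_mul, mul_inv_cancel_right]
      exact e2 ▸ mul_mem k4 (inv_mem k5)

end Setup

end Cfsg.Agent.FourFixed
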